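import Mathlib

/-!
# Minimal primes of a faithfully flat directed colimit
-/

set_option autoImplicit false
set_option linter.unusedSectionVars false

universe u

namespace Groth.Agent.FlatMorColim

theorem exists_mul_pow_eq_zero {R : Type u} [CommRing R] {P : Ideal R} (hP : P ∈ minimalPrimes R)
    {x : R} (hx : x ∈ P) : ∃ s ∉ P, ∃ k : ℕ, s * x ^ k = 0 := by
  have hPp := hP.1.1
  by_contra h
  simp only [not_exists, not_and] at h
  let M : Submonoid R :=
    { carrier := {y | ∃ s ∉ P, ∃ k : ℕ, y = s * x ^ k}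
      one_mem' := ⟨1, (Ideal.ne_top_iff_one P).1 hPp.ne_top, 0, by simp⟩
      mul_mem' := by
        rintro _ _ ⟨s, hs, k, rfl⟩ ⟨t, ht, l, rfl⟩
        exact ⟨s * t, fun h' => (hPp.mem_or_mem h').elim hs ht, k + l, by ring⟩ }
  have hdis : Disjoint ((⊥ : Ideal R) : Set R) (M : Set R) := by
    rw [Set.disjoint_left]
    rintro y hy ⟨s, hs, k, rfl⟩
    exact h s hs k hy
  obtain ⟨Q, hQ, -, hQM⟩ := Ideal.exists_le_prime_disjoint ⊥ M hdis
  have hQP : Q ≤ P := fun y hy => by_contra fun hyP =>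
    Set.disjoint_left.1 hQM hy ⟨y, hyP, 0, by simp⟩
  exact Set.disjoint_left.1 hQM (hP.2 ⟨hQ, bot_le⟩ hQP hx)
    ⟨1, (Ideal.ne_top_iff_one P).1 hPp.ne_top, 1, by simp⟩

variable {ι : Type u} [Preorder ι] [IsDirectedOrder ι] [Nonempty ι] (G : ι → Type u)
  [∀ i, CommRing (G i)] (f : ∀ i j, i ≤ j → G i →+* G j) [DirectedSystem G fun i j h => f i j h]

/-- The colimit. -/
abbrev DL : Type u := Ring.DirectLimit G fun i j h => ⇑(f i j h)

/-- The maps into the colimit. -/
noncomputable abbrev inc (i : ι) : G i →+* DL G f := Ring.DirectLimit.of G (fun i j h => ⇑(f i j h)) i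

omit [IsDirectedOrder ι] [Nonempty ι] [DirectedSystem G fun i j h => f i j h] in
theorem inc_comp (i j : ι) (h : i ≤ j) : (inc G f j).comp (f i j h) = inc G f i :=
  RingHom.ext fun _ => Ring.DirectLimit.of_f _ _

theorem exists_stage_eq {i : ι} {x y : G i} (h : inc G f i x = inc G f i y) :
    ∃ j, ∃ hij : i ≤ j, f i j hij x = f i j hij y := by
  have h0 : inc G f i (x - y) = 0 := by rw [map_sub, h, sub_self]
  obtain ⟨j, hij, hj⟩ := Ring.DirectLimit.of.zero_exact h0
  exact ⟨j, hij, sub_eq_zero.1 (by rwa [map_sub] at hj)⟩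

variable (hf : ∀ i j (h : i ≤ j), letI := (f i j h).toAlgebra
  Module.FaithfullyFlat (G i) (G j))

include hf in
theorem comap_mem_minimalPrimes (i : ι) {P : Ideal (DL G f)} (hP : P ∈ minimalPrimes (DL G f)) :
    P.comap (inc G f i) ∈ minimalPrimes (G i) := by
  have hPp := hP.1.1
  refine ⟨⟨Ideal.IsPrime.comap _, bot_le⟩, ?_⟩
  rintro q ⟨hq, -⟩ hle x hx
  obtain ⟨s, hs, k, hsk⟩ := exists_mul_pow_eq_zero hP hx
  obtain ⟨l, s, rfl⟩ := Ring.DirectLimit.exists_of s
  obtain ⟨j₀, hij, hlj⟩ := exists_ge_ge i l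
  have e : inc G f j₀ (f l j₀ hlj s * f i j₀ hij x ^ k) = inc G f j₀ 0 := by
    rw [map_mul, map_pow, map_zero, ← RingHom.comp_apply, inc_comp, ← RingHom.comp_apply, inc_comp]
    exact hsk
  obtain ⟨j, hj, hzero⟩ := exists_stage_eq G f e
  rw [map_mul, map_pow, map_zero, DirectedSystem.map_map (f := fun i j h => ⇑(f i j h)),
    DirectedSystem.map_map (f := fun i j h => ⇑(f i j h))] at hzero
  let _ := (f i j (hij.trans hj)).toAlgebra
  have := hf i j (hij.trans hj)
  let Pj := P.comap (inc G f j)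
  have hover : Pj.comap (f i j (hij.trans hj)) = P.comap (inc G f i) := by
    rw [Ideal.comap_comap, inc_comp]
  have : Pj.IsPrime := Ideal.IsPrime.comap _
  have : Pj.LiesOver (P.comap (inc G f i)) := ⟨hover.symm⟩
  obtain ⟨qj, hqj, hqjp, hqover⟩ := Pj.exists_ideal_le_liesOver_of_le (p := q) (q := P.comap (inc G f i)) hle
  have hsj : f l j (hlj.trans hj) s ∉ qj := fun h => hs (by
    have := hqj h
    rwa [Ideal.mem_comap, ← RingHom.comp_apply, inc_comp] at this)
  have hm : f l j (hlj.trans hj) s * f i j (hij.trans hj) x ^ k ∈ qj := by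
    rw [hzero]
    exact zero_mem _
  have := hqjp.mem_of_pow_mem _ ((hqjp.mem_or_mem hm).resolve_left hsj)
  rw [hqover.over]
  exact this

omit [Nonempty ι] in
include hf in
theorem comap_map_inc [Nonempty ι] (i : ι) (I : Ideal (G i)) :
    (I.map (inc G f i)).comap (inc G f i) = I := by
  refine le_antisymm (fun x hx => ?_) Ideal.le_comap_map
  let T : Set (DL G f) := {z | ∃ j, ∃ h : i ≤ j, ∃ y ∈ I.map (f i j h), inc G f j y = z}
  have hT : ∀ z ∈ I.map (inc G f i), z ∈ T := by
    intro z hz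
    induction hz using Submodule.span_induction with
    | mem z hz =>
      obtain ⟨a, ha, rfl⟩ := hz
      exact ⟨i, le_rfl, f i i le_rfl a, Ideal.mem_map_of_mem _ ha, Ring.DirectLimit.of_f _ _⟩
    | zero => exact ⟨i, le_rfl, 0, zero_mem _, map_zero _⟩
    | add a b _ _ ha hb =>
      obtain ⟨j, hij, y, hy, rfl⟩ := ha
      obtain ⟨l, hil, z, hz, rfl⟩ := hb
      obtain ⟨m, hjm, hlm⟩ := exists_ge_ge j l
      refine ⟨m, hij.trans hjm, f j m hjm y + f l m hlm z, add_mem ?_ ?_, ?_⟩
      · have := Ideal.mem_map_of_mem (f j m hjm) hy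
        rwa [Ideal.map_map, show (f j m hjm).comp (f i j hij) = f i m (hij.trans hjm) from
          RingHom.ext fun a => DirectedSystem.map_map (f := fun i j h => ⇑(f i j h)) _ _ a] at this
      · have := Ideal.mem_map_of_mem (f l m hlm) hz
        rwa [Ideal.map_map, show (f l m hlm).comp (f i l hil) = f i m (hij.trans hjm) from
          RingHom.ext fun a => DirectedSystem.map_map (f := fun i j h => ⇑(f i j h)) _ _ a] at this
      · rw [map_add, ← RingHom.comp_apply, inc_comp, ← RingHom.comp_apply, inc_comp]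
    | smul r a _ ha =>
      obtain ⟨j, hij, y, hy, rfl⟩ := ha
      obtain ⟨l, r, rfl⟩ := Ring.DirectLimit.exists_of r
      obtain ⟨m, hjm, hlm⟩ := exists_ge_ge j l
      refine ⟨m, hij.trans hjm, f l m hlm r * f j m hjm y, Ideal.mul_mem_left _ _ ?_, ?_⟩
      · have := Ideal.mem_map_of_mem (f j m hjm) hy
        rwa [Ideal.map_map, show (f j m hjm).comp (f i j hij) = f i m (hij.trans hjm) from
          RingHom.ext fun a => DirectedSystem.map_map (f := fun i j h => ⇑(f i j h)) _ _ a] at this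
      · rw [map_mul, ← RingHom.comp_apply, inc_comp, ← RingHom.comp_apply, inc_comp]
        rfl
  obtain ⟨j, hij, y, hy, hyx⟩ := hT _ hx
  obtain ⟨m, hjm, hm⟩ := exists_stage_eq G f (x := y) (y := f i j hij x) (by
    rw [hyx, ← RingHom.comp_apply, inc_comp])
  rw [DirectedSystem.map_map (f := fun i j h => ⇑(f i j h))] at hm
  have hym := Ideal.mem_map_of_mem (f j m hjm) hy
  rw [Ideal.map_map, show (f j m hjm).comp (f i j hij) = f i m (hij.trans hjm) from
    RingHom.ext fun a => DirectedSystem.map_map (f := fun i j h => ⇑(f i j h)) _ _ a, hm] at hym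
  let _ := (f i m (hij.trans hjm)).toAlgebra
  have := hf i m (hij.trans hjm)
  rw [← I.comap_map_eq_self_of_faithfullyFlat (B := G m)]
  exact hym

include hf in
theorem exists_minimal_over (i : ι) {p : Ideal (G i)} (hp : p ∈ minimalPrimes (G i)) :
    ∃ P ∈ minimalPrimes (DL G f), P.comap (inc G f i) = p := by
  have hpp := hp.1.1
  obtain ⟨Q, hQ, hQp⟩ := (Ideal.comap_map_eq_self_iff_of_isPrime p).1 (comap_map_inc G f hf i p)
  obtain ⟨P, hP, hPQ⟩ := Ideal.exists_minimalPrimes_le (I := (⊥ : Ideal (DL G f))) (J := Q) bot_le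
  exact ⟨P, hP, le_antisymm (hQp ▸ Ideal.comap_mono hPQ)
    (hp.2 ⟨Ideal.IsPrime.comap (hK := hP.1.1) _, bot_le⟩ (hQp ▸ Ideal.comap_mono hPQ))⟩

omit [Nonempty ι] in
theorem eq_of_comap_eq [Nonempty ι] {P Q : Ideal (DL G f)} (h : ∀ i, P.comap (inc G f i) = Q.comap (inc G f i)) :
    P = Q := by
  ext z
  obtain ⟨i, x, rfl⟩ := Ring.DirectLimit.exists_of z
  exact Ideal.ext_iff.1 (h i) x

include hf in
theorem encard_minimalPrimes :
    (minimalPrimes (DL G f)).encard = ⨆ i, (minimalPrimes (G i)).encard := by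
  classical
  refine le_antisymm ?_ (iSup_le fun i => ?_)
  · have key : ∀ t : Finset (Ideal (DL G f)), ↑t ⊆ minimalPrimes (DL G f) →
        (t.card : ℕ∞) ≤ ⨆ i, (minimalPrimes (G i)).encard := by
      intro t ht
      have hsep : ∀ pq : Ideal (DL G f) × Ideal (DL G f), ∃ i, pq.1 ≠ pq.2 →
          pq.1.comap (inc G f i) ≠ pq.2.comap (inc G f i) := fun pq => by
        by_cases h : pq.1 = pq.2
        · exact ⟨Classical.arbitrary ι, fun h' => absurd h h'⟩
        · by_contra h'
          simp only [not_exists, Classical.not_imp, not_not] at h'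
          exact h (eq_of_comap_eq G f fun i => (h' i).2)
      choose g hg using hsep
      obtain ⟨m, hm⟩ := Finset.exists_le ((t ×ˢ t).image g)
      refine le_trans ?_ (le_iSup (fun i => (minimalPrimes (G i)).encard) m)
      rw [← Finset.card_image_of_injOn (f := Ideal.comap (inc G f m)) (s := t) fun P hP Q hQ hPQ => ?_,
        ← Set.encard_coe_eq_coe_finsetCard]
      · refine Set.encard_le_encard fun p hp => ?_
        obtain ⟨P, hP, rfl⟩ := Finset.mem_image.1 hp
        exact comap_mem_minimalPrimes G f hf m (ht hP)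
      · by_contra hne
        refine hg (P, Q) hne ?_
        have hgm : g (P, Q) ≤ m := hm _ (Finset.mem_image_of_mem g (Finset.mem_product.2 ⟨Finset.mem_coe.1 hP, Finset.mem_coe.1 hQ⟩))
        show P.comap _ = Q.comap _
        rw [← inc_comp G f _ m hgm, ← Ideal.comap_comap, ← Ideal.comap_comap, hPQ]
    rcases (minimalPrimes (DL G f)).finite_or_infinite with hfin | hinf
    · rw [← hfin.coe_toFinset, Set.encard_coe_eq_coe_finsetCard]
      exact key _ hfin.coe_toFinset.le
    · rw [hinf.encard_eq]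
      refine top_le_iff.2 (ENat.eq_top_iff_forall_ge.2 fun n => ?_)
      obtain ⟨t, ht, htc⟩ := hinf.exists_subset_card_eq n
      exact htc ▸ key t ht
  · have hsub : minimalPrimes (G i) ⊆ Ideal.comap (inc G f i) '' minimalPrimes (DL G f) := fun p hp => by
      obtain ⟨P, hP, rfl⟩ := exists_minimal_over G f hf i hp
      exact ⟨P, hP, rfl⟩
    exact (Set.encard_le_encard hsub).trans (Set.encard_image_le _ _)

end Groth.Agent.FlatMorColim
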